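import Groth.Agent.NormX.Cases
import Groth.Agent.SGA1Q.Exists
import Groth.Agent.SGA1Q.Properties
import Groth.Prelude.Def_RelProj

/-!
# Norms for quotients by finite groups and ample modules on quotients
-/

universe u

open CategoryTheory CategoryTheory.Limits AlgebraicGeometry TopologicalSpace

set_option linter.style.haveILetI false
set_option backward.isDefEq.respectTransparency false
set_option backward.isDefEq.respectTransparency.types false

namespace Groth.Agent.QuotAmple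

open Groth.Agent

variable {X Y S : Scheme.{u}} {G : Type u} [Group G] [Fintype G] {ρ : G →* Aut X} {p : X ⟶ Y}

/-- The product of the translates of a function. -/
noncomputable def orbitProd (hp : SGA1.IsQuot ρ p) (U : Y.Opens) (s : Γ(X, p ⁻¹ᵁ U)) : Γ(X, p ⁻¹ᵁ U) :=
  ∏ g : G, ((ρ g).hom.appLE (p ⁻¹ᵁ U) (p ⁻¹ᵁ U) (SGA1.preimage_le_of_inv ρ p hp.inv g U)).hom s

omit [Fintype G] in
theorem appLE_appLE (hp : SGA1.IsQuot ρ p) (U : Y.Opens) (g g' : G) (s : Γ(X, p ⁻¹ᵁ U)) :
    ((ρ g').hom.appLE (p ⁻¹ᵁ U) (p ⁻¹ᵁ U) (SGA1.preimage_le_of_inv ρ p hp.inv g' U)).hom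
      (((ρ g).hom.appLE (p ⁻¹ᵁ U) (p ⁻¹ᵁ U) (SGA1.preimage_le_of_inv ρ p hp.inv g U)).hom s) =
    ((ρ (g * g')).hom.appLE (p ⁻¹ᵁ U) (p ⁻¹ᵁ U) (SGA1.preimage_le_of_inv ρ p hp.inv (g * g') U)).hom s := by
  rw [← RingHom.comp_apply, ← CommRingCat.hom_comp, Scheme.Hom.appLE_comp_appLE]
  exact congr(($(SGA1Q.appLE_congr_hom (SGA1Q.hom_mul ρ g g').symm _ _)).hom s)

theorem orbitProd_mem_range (hp : SGA1.IsQuot ρ p) (U : Y.Opens) (s : Γ(X, p ⁻¹ᵁ U)) :
    ∃ t : Γ(Y, U), (p.app U).hom t = orbitProd hp U s :=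
  (hp.range_iff U _).2 fun g' => by
    rw [orbitProd, map_prod]
    simp only [appLE_appLE hp]
    exact Fintype.prod_equiv (Equiv.mulRight g') _ _ fun g => rfl

/-- The norm of a function along a quotient. -/
noncomputable def quotNormFun (hp : SGA1.IsQuot ρ p) (U : Y.Opens) (s : Γ(X, p ⁻¹ᵁ U)) : Γ(Y, U) :=
  (orbitProd_mem_range hp U s).choose

theorem app_quotNormFun (hp : SGA1.IsQuot ρ p) (U : Y.Opens) (s : Γ(X, p ⁻¹ᵁ U)) :
    (p.app U).hom (quotNormFun hp U s) = orbitProd hp U s :=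
  (orbitProd_mem_range hp U s).choose_spec

theorem orbitProd_res (hp : SGA1.IsQuot ρ p) {U V : Y.Opens} (h : V ≤ U) (s : Γ(X, p ⁻¹ᵁ U)) :
    AModX.resR (p.preimage_mono h) (orbitProd hp U s) = orbitProd hp V (AModX.resR (p.preimage_mono h) s) := by
  rw [orbitProd, orbitProd, map_prod]
  refine Finset.prod_congr rfl fun g _ => ?_
  show ((ρ g).hom.appLE (p ⁻¹ᵁ U) (p ⁻¹ᵁ U) _ ≫ X.presheaf.map (homOfLE (p.preimage_mono h)).op) s =
    (X.presheaf.map (homOfLE (p.preimage_mono h)).op ≫ (ρ g).hom.appLE (p ⁻¹ᵁ V) (p ⁻¹ᵁ V) _) s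
  rw [Scheme.Hom.appLE_map, Scheme.Hom.map_appLE]

/-- The norm along a quotient by a finite group. -/
noncomputable def quotNorm (hp : SGA1.IsQuot ρ p) : NormX.WNorm p where
  norm U :=
    { toFun := quotNormFun hp U
      map_one' := hp.injective U (by
        rw [app_quotNormFun, map_one, orbitProd]
        exact Finset.prod_eq_one fun g _ => map_one _)
      map_mul' := fun a b => hp.injective U (by
        rw [app_quotNormFun, map_mul, app_quotNormFun, app_quotNormFun, orbitProd, orbitProd, orbitProd,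
          ← Finset.prod_mul_distrib]
        exact Finset.prod_congr rfl fun g _ => map_mul _ _ _) }
  norm_res := fun {U V} h s => hp.injective V (by
    show (p.app V).hom (AModX.resR h (quotNormFun hp U s)) = (p.app V).hom (quotNormFun hp V _)
    rw [app_quotNormFun, ← orbitProd_res hp h s, ← app_quotNormFun hp U s]
    exact ConcreteCategory.congr_hom (p.naturality (homOfLE h).op) _)
  norm_mem U s y hy h hb := by
    classical
    obtain ⟨x, rfl⟩ := SGA1Q.surjective hp y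
    have hx : x ∈ X.basicOpen ((p.app U).hom (quotNormFun hp U s)) := by
      rw [← Scheme.preimage_basicOpen]; exact hb
    rw [app_quotNormFun, orbitProd, ← Finset.mul_prod_erase _ _ (Finset.mem_univ (1 : G)),
      Scheme.basicOpen_mul] at hx
    refine h x rfl ?_
    have he := congr(($(SGA1Q.appLE_congr_hom (SGA1Q.hom_one ρ)
      (SGA1.preimage_le_of_inv ρ p hp.inv 1 U) (le_refl (p ⁻¹ᵁ U)))).hom s)
    have h1 := hx.1
    rw [he] at h1
    simpa [Scheme.Hom.appLE] using h1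

/-- Quotients of quasi-projective schemes by finite groups exist and are quasi-projective. -/
theorem exists_quot_of_isRelAmple {G : Type u} [Group G] [Finite G] [IsLocallyNoetherian S] (f : X ⟶ S)
    [LocallyOfFiniteType f] (ρ : G →* Aut X) (hρ : ∀ σ : G, (ρ σ).hom ≫ f = f) {L : X.Modules}
    (hL : RelAmple.IsRelAmple f L) :
    ∃ (Y : Scheme.{u}) (q : X ⟶ Y) (h : Y ⟶ S), q ≫ h = f ∧ SGA1.IsQuot ρ q ∧ Surjective q ∧ IsSeparated h ∧
      RelProj.IsQuasiProjective h := by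
  classical
  haveI : QuasiCompact f := hL.1
  haveI : IsSeparated f := AmpleX.isSeparated_of_ampleOn fun x => AmpleX.ampleOn_of_isRelAmple hL (f x)
  have horb : ∀ x : X, ∃ U : X.Opens, IsAffineOpen U ∧ ∀ g : G, (ρ g).hom x ∈ U := fun x => by
    obtain ⟨V, hV, hxV, -⟩ := exists_isAffineOpen_mem_and_subset (x := f x) (U := ⊤) trivial
    have hsub : Set.range (fun g : G => (ρ g).hom x) ⊆ ((f ⁻¹ᵁ V).ι ''ᵁ ⊤ : X.Opens) := by
      rintro _ ⟨g, rfl⟩
      rw [Scheme.Opens.ι_image_top]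
      show f ((ρ g).hom x) ∈ V
      rw [show f ((ρ g).hom x) = f x from congr(($(hρ g)).base x)]
      exact hxV
    obtain ⟨m, hm, a, hFa, -, ha⟩ := NormX.exists_locus_finite (f ⁻¹ᵁ V).ι (hL.2 ⟨V, hV⟩)
      (Set.finite_range fun g : G => (ρ g).hom x) hsub (U := ⊤) (Set.subset_univ _)
    exact ⟨_, ha, fun g => hFa ⟨g, rfl⟩⟩
  obtain ⟨Y, q, hq⟩ := SGA1Q.exists_quotient ρ horb
  obtain ⟨h, hh, -⟩ := SGA1Q.desc_existsUnique_isQuot hq f hρ
  haveI : Surjective q := ⟨SGA1Q.surjective hq⟩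
  haveI : LocallyOfFiniteType h := SGA1Q.locallyOfFiniteType_of_isQuot hq hh inferInstance
  haveI : QuasiCompact h := SGA1Q.quasiCompact_of_isQuot hq hh inferInstance
  haveI : IsSeparated h := (SGA1Q.isSeparated_iff_of_isQuot hq hh).1 inferInstance
  haveI : IsFinite q := SGA1Q.isFinite_of_isQuot hq hh inferInstance
  haveI := Fintype.ofFinite G
  obtain ⟨M, ⟨D⟩⟩ := NormX.exists_datum (quotNorm hq) (AmpleX.isInvertible_of_isRelAmple hL)
  exact ⟨Y, q, h, hh, hq, inferInstance, inferInstance, inferInstance, inferInstance, M,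
    NormX.isRelAmple_of_datum h q q.isClosedMap q.finite_preimage_singleton D (hh ▸ hL)⟩

end Groth.Agent.QuotAmple
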